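import Mathlib
import Cfsg.Agent.Lib.Helper79.NilCover.Defs

/-!
# S3894, package BO: a matrix with an eigenvector normalises `span(1, t)` for a transvection `t`
-/

set_option autoImplicit false

namespace Cfsg.Agent.Lib.Helper80.NilCover

open Cfsg.Agent.Lib.Helper79.NilCover

open Matrix

universe u

theorem pkgBorel : PkgBorel.{u} := by
  intro F _ g hg v hv c h
  -- the eigen-equations
  have h0 : g 0 0 * v 0 + g 0 1 * v 1 = c * v 0 := by
    have := congrFun h 0
    simpa [Matrix.mulVec, dotProduct, Fin.sum_univ_two] using this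
  have h1 : g 1 0 * v 0 + g 1 1 * v 1 = c * v 1 := by
    have := congrFun h 1
    simpa [Matrix.mulVec, dotProduct, Fin.sum_univ_two] using this
  have hdet : g.det = g 0 0 * g 1 1 - g 0 1 * g 1 0 := Matrix.det_fin_two g
  -- `c ≠ 0`
  have hc : c ≠ 0 := by
    intro hc0
    apply hg
    apply Matrix.exists_mulVec_eq_zero_iff.mp
    exact ⟨v, hv, by rw [h, hc0, zero_smul]⟩
  have hv01 : v 0 ≠ 0 ∨ v 1 ≠ 0 := by
    by_contra hcon
    push Not at hcon
    apply hv
    funext i
    fin_cases i
    · exact hcon.1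
    · exact hcon.2
  -- the nilpotent matrix `N = v wᵀ`, `w = (-v₁, v₀)`
  obtain ⟨N, hN⟩ : ∃ N : Matrix (Fin 2) (Fin 2) F,
      N = !![-(v 0 * v 1), v 0 ^ 2; -(v 1 ^ 2), v 0 * v 1] := ⟨_, rfl⟩
  have hw0 : c * (-(v 1) * g 0 0 + v 0 * g 1 0) = -g.det * v 1 := by
    rw [hdet]
    linear_combination (g 0 0) * h1 - (g 1 0) * h0
  have hw1 : c * (-(v 1) * g 0 1 + v 0 * g 1 1) = g.det * v 0 := by
    rw [hdet]
    linear_combination (g 0 1) * h1 - (g 1 1) * h0
  have hgN : g * N = c • N := by
    rw [hN]
    ext i j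
    fin_cases i <;> fin_cases j
    · simp [Matrix.mul_apply, Fin.sum_univ_two]
      linear_combination (-(v 1)) * h0
    · simp [Matrix.mul_apply, Fin.sum_univ_two]
      linear_combination (v 0) * h0
    · simp [Matrix.mul_apply, Fin.sum_univ_two]
      linear_combination (-(v 1)) * h1
    · simp [Matrix.mul_apply, Fin.sum_univ_two]
      linear_combination (v 0) * h1
  have hNg : c • (N * g) = g.det • N := by
    rw [hN]
    ext i j
    fin_cases i <;> fin_cases j
    · simp [Matrix.vecMul, dotProduct, Fin.sum_univ_two]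
      linear_combination (v 0) * hw0
    · simp [Matrix.vecMul, dotProduct, Fin.sum_univ_two]
      linear_combination (v 0) * hw1
    · simp [Matrix.vecMul, dotProduct, Fin.sum_univ_two]
      linear_combination (v 1) * hw0
    · simp [Matrix.vecMul, dotProduct, Fin.sum_univ_two]
      linear_combination (v 1) * hw1
  refine ⟨1 + N, ?_, ?_, ?_, 1 - c ^ 2 / g.det, c ^ 2 / g.det,
    div_ne_zero (pow_ne_zero 2 hc) hg, ?_⟩
  · rw [hN, Matrix.det_fin_two]
    simp
    ring
  · rw [hN, Matrix.trace_fin_two]
    simp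
    ring
  · rw [hN]
    rcases hv01 with h' | h'
    · left
      simpa using h'
    · right
      simpa using h'
  · have e1 : (c ^ 2 / g.det) • (N * g) = c • N := by
      have e2 : (c ^ 2 / g.det) • (N * g) = (c / g.det) • (c • (N * g)) := by
        rw [smul_smul]
        congr 1
        field_simp
      rw [e2, hNg, smul_smul]
      congr 1
      field_simp
    calc g * (1 + N) = g + g * N := by rw [mul_add, mul_one]
      _ = g + c • N := by rw [hgN]
      _ = g + (c ^ 2 / g.det) • (N * g) := by rw [e1]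
      _ = ((1 - c ^ 2 / g.det) • (1 : Matrix (Fin 2) (Fin 2) F) +
            (c ^ 2 / g.det) • (1 + N)) * g := by
        rw [smul_add, ← add_assoc, ← add_smul, sub_add_cancel, one_smul, add_mul, one_mul,
          smul_mul_assoc]

end Cfsg.Agent.Lib.Helper80.NilCover
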