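import Mathlib
import Cfsg.Agent.Lib.Helper79.NilCover.Defs

/-!
# S3894, package N1: an element of norm one and nonzero trace in `F[g]`
-/

set_option autoImplicit false

namespace Cfsg.Agent.Lib.Helper80.NilCover

open Cfsg.Agent.Lib.Helper79.NilCover

universe u

theorem pkgNormOne : PkgNormOne.{u} := by
  intro F _ _ hq τ δ h
  classical
  by_cases h2 : (2 : F) = 0
  · -- characteristic two
    have hδ : δ ≠ 0 := by simpa using h 0
    have hτ : τ ≠ 0 := by
      intro hτ
      have hchar : ringChar F = 2 :=
        CharP.ringChar_of_prime_eq_zero Nat.prime_two (by exact_mod_cast h2)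
      obtain ⟨r, hr⟩ := FiniteField.isSquare_of_char_two hchar δ
      apply h r
      rw [hτ, hr]
      linear_combination (r * r) * h2
    refine ⟨-1, τ / δ, div_ne_zero hτ hδ, ?_, Or.inr h2⟩
    field_simp
    ring
  · -- odd characteristic
    have hcard : 2 < (Finset.univ.erase (-τ / 2)).card := by
      rw [Finset.card_erase_of_mem (Finset.mem_univ _), Finset.card_univ]
      omega
    obtain ⟨a1, a2, a3, h1, h2', h3, h12, h13, h23⟩ := Finset.two_lt_card_iff.mp hcard
    have hne : ∀ a ∈ Finset.univ.erase (-τ / 2), τ + 2 * a ≠ 0 := by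
      intro a ha hzero
      apply (Finset.mem_erase.mp ha).1
      field_simp
      linear_combination hzero
    have hgood : ∃ a, τ + 2 * a ≠ 0 ∧ 2 * a ^ 2 + 2 * τ * a + τ ^ 2 - 2 * δ ≠ 0 := by
      by_contra hcon
      push Not at hcon
      have f1 := hcon a1 (hne a1 h1)
      have f2 := hcon a2 (hne a2 h2')
      have f3 := hcon a3 (hne a3 h3)
      have e12 : a1 + a2 + τ = 0 := by
        have hprod : (2 : F) * (a1 - a2) * (a1 + a2 + τ) = 0 := by linear_combination f1 - f2
        rcases mul_eq_zero.mp hprod with h' | h'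
        · rcases mul_eq_zero.mp h' with h'' | h''
          · exact absurd h'' h2
          · exact absurd (sub_eq_zero.mp h'') h12
        · exact h'
      have e13 : a1 + a3 + τ = 0 := by
        have hprod : (2 : F) * (a1 - a3) * (a1 + a3 + τ) = 0 := by linear_combination f1 - f3
        rcases mul_eq_zero.mp hprod with h' | h'
        · rcases mul_eq_zero.mp h' with h'' | h''
          · exact absurd h'' h2
          · exact absurd (sub_eq_zero.mp h'') h13
        · exact h'
      exact h23 (by linear_combination e12 - e13)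
    obtain ⟨a, ha1, ha2⟩ := hgood
    obtain ⟨D, hDdef⟩ : ∃ D, D = a ^ 2 + τ * a + δ := ⟨_, rfl⟩
    have hD : D ≠ 0 := hDdef ▸ h a
    refine ⟨(a ^ 2 - δ) / D, (τ + 2 * a) / D, div_ne_zero ha1 hD, ?_, Or.inl ?_⟩
    · field_simp
      rw [hDdef]
      ring
    · have e : 2 * ((a ^ 2 - δ) / D) + (τ + 2 * a) / D * τ =
          (2 * a ^ 2 + 2 * τ * a + τ ^ 2 - 2 * δ) / D := by
        field_simp
        ring
      rw [e]
      exact div_ne_zero ha2 hD

end Cfsg.Agent.Lib.Helper80.NilCover
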