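import Mathlib
import Cfsg.Agent.Lib.Helper79.NilCover.Defs

/-!
# S3894, package SP: the special case (`F` of order 5 in disguise)
-/

set_option autoImplicit false

namespace Cfsg.Agent.Lib.Helper80.NilCover

open Cfsg.Agent.Lib.Helper79.NilCover

open Matrix

universe u

theorem pkgSpecial : PkgSpecial.{u} := by
  intro F _ h2 hB i hi t z ht htr htd hz hzt hzs hdet
  have hi0 : i ≠ 0 := by
    intro h
    rw [h] at hi
    norm_num at hi
  -- `z` is anti-diagonal
  have hz00 : z 0 0 = 0 := by
    have := congrFun (congrFun hzs 0) 0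
    simp [Matrix.mul_apply, Fin.sum_univ_two, Matrix.vecMul, dotProduct] at this
    have h' : (2 : F) * i * z 0 0 = 0 := by linear_combination this
    rcases mul_eq_zero.mp h' with h'' | h''
    · rcases mul_eq_zero.mp h'' with h''' | h'''
      · exact absurd h''' h2
      · exact absurd h''' hi0
    · exact h''
  have hz11 : z 1 1 = 0 := by
    have := congrFun (congrFun hzs 1) 1
    simp [Matrix.mul_apply, Fin.sum_univ_two, Matrix.vecMul, dotProduct] at this
    have h' : (2 : F) * i * z 1 1 = 0 := by linear_combination -this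
    rcases mul_eq_zero.mp h' with h'' | h''
    · rcases mul_eq_zero.mp h'' with h''' | h'''
      · exact absurd h''' h2
      · exact absurd h''' hi0
    · exact h''
  have hzdet : z.det = -(z 0 1 * z 1 0) := by
    rw [Matrix.det_fin_two, hz00, hz11]
    ring
  have hz12 : z 0 1 * z 1 0 ≠ 0 := by
    intro h
    apply hz
    rw [hzdet, h, neg_zero]
  have hz1 : z 0 1 ≠ 0 := left_ne_zero_of_mul hz12
  -- `z₁ z₂ = ν²`
  obtain ⟨ν, hν⟩ : ∃ ν : F, ν ^ 2 = z 0 1 * z 1 0 := by
    rcases hB (z.det) hz with hD | hD
    · -- `D² = 1`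
      have hfac : (z.det - 1) * (z.det + 1) = 0 := by linear_combination hD
      rcases mul_eq_zero.mp hfac with h' | h'
      · refine ⟨i, ?_⟩
        rw [hi]
        have : z.det = 1 := sub_eq_zero.mp h'
        rw [hzdet] at this
        linear_combination this
      · refine ⟨1, ?_⟩
        rw [hzdet] at h'
        linear_combination h'
    · -- `D² = -1`
      exfalso
      have hfac : (z.det - i) * (z.det + i) = 0 := by linear_combination hD - hi
      rcases mul_eq_zero.mp hfac with h' | h'
      · apply hdet 1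
        rw [one_pow, mul_one]
        exact sub_eq_zero.mp h'
      · apply hdet i
        rw [hi]
        linear_combination h'
  have hν0 : ν ≠ 0 := by
    intro h
    rw [h] at hν
    apply hz12
    rw [← hν]
    norm_num
  -- the entries of `t`
  have e01 : z 0 1 * t 1 1 = t 0 0 * z 0 1 := by
    have := congrFun (congrFun hzt 0) 1
    simp [Matrix.mul_apply, Fin.sum_univ_two, hz00, hz11] at this
    linear_combination this
  have e00 : z 0 1 * t 1 0 = t 0 1 * z 1 0 := by
    have := congrFun (congrFun hzt 0) 0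
    simp [Matrix.mul_apply, Fin.sum_univ_two, hz00] at this
    linear_combination this
  have h11 : t 1 1 = t 0 0 := by
    have h' : z 0 1 * (t 1 1 - t 0 0) = 0 := by linear_combination e01
    rcases mul_eq_zero.mp h' with h'' | h''
    · exact absurd h'' hz1
    · exact sub_eq_zero.mp h''
  have htr' : (2 : F) * t 0 0 ≠ 0 := by
    intro h
    apply htr
    rw [Matrix.trace_fin_two, h11]
    linear_combination h
  have hdet' : t 0 0 * t 0 0 - t 0 1 * t 1 0 = 1 := by
    rw [Matrix.det_fin_two, h11] at ht
    exact ht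
  -- the two eigenvalues `t 0 0 ± κ`, `κ = t 0 1 * ν / z 0 1`
  obtain ⟨κ, hκ⟩ : ∃ κ : F, κ * z 0 1 = t 0 1 * ν :=
    ⟨t 0 1 * ν / z 0 1, div_mul_cancel₀ _ hz1⟩
  have hκ2 : κ ^ 2 = t 0 1 * t 1 0 := by
    have h' : z 0 1 ^ 2 * (κ ^ 2 - t 0 1 * t 1 0) = 0 := by
      linear_combination (κ * z 0 1 + t 0 1 * ν) * hκ + (t 0 1) ^ 2 * hν -
        (t 0 1 * z 0 1) * e00
    rcases mul_eq_zero.mp h' with h'' | h''
    · exact absurd (pow_eq_zero_iff (by norm_num) |>.mp h'') hz1
    · exact sub_eq_zero.mp h''
  have hprod : (t 0 0 + κ) * (t 0 0 - κ) = 1 := by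
    linear_combination hdet' - hκ2
  have hlam0 : t 0 0 + κ ≠ 0 := left_ne_zero_of_mul_eq_one hprod
  have hlam2 : (t 0 0 + κ) ^ 2 * (t 0 0 - κ) = t 0 0 + κ := by
    linear_combination (t 0 0 + κ) * hprod
  rcases hB (t 0 0 + κ) hlam0 with h1 | h1
  · -- `λ² = 1`: then `κ = 0`, so `t` is diagonal
    rw [h1, one_mul] at hlam2
    have hκ0 : κ = 0 := by
      have h' : (2 : F) * κ = 0 := by linear_combination -hlam2
      rcases mul_eq_zero.mp h' with h'' | h''
      · exact absurd h'' h2
      · exact h''
    rw [hκ0, zero_mul] at hκ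
    have hb : t 0 1 = 0 := by
      rcases mul_eq_zero.mp hκ.symm with h'' | h''
      · exact h''
      · exact absurd h'' hν0
    have hc : t 1 0 = 0 := by
      rw [hb, zero_mul] at e00
      rcases mul_eq_zero.mp e00 with h'' | h''
      · exact absurd h'' hz1
      · exact h''
    rcases htd with h' | h'
    · exact h' hb
    · exact h' hc
  · -- `λ² = -1`: then the trace vanishes
    rw [h1] at hlam2
    apply htr'
    linear_combination -hlam2

end Cfsg.Agent.Lib.Helper80.NilCover
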